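import Mathlib
import Groth.Agent.Lib.Helper4.DimFT1

/-!
# Dimension of algebras over a field integral over / containing polynomial rings (helper9)
-/

universe u
namespace Groth.Agent.Helper9.IdealRed
open Groth.Agent.Lib.Helper4.DimFT1

variable {k : Type u} [Field k] {B : Type u} [CommRing B] [Algebra k B]

theorem ringKrullDim_mvPolynomial_fin (n : ℕ) :
    ringKrullDim (MvPolynomial (Fin n) k) = n := by
  rw [MvPolynomial.ringKrullDim_of_isNoetherianRing, ringKrullDim_eq_zero_of_field, zero_add,
    Nat.card_fin]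

/-- dimension of the target is bounded by that of an integral subalgebra -/
theorem ringKrullDim_le_of_isIntegral (S : Subalgebra k B) [Algebra.IsIntegral S B] :
    ringKrullDim B ≤ ringKrullDim S :=
  Order.krullDim_le_of_strictMono _ (strictMono_comap_of_isIntegral S B)

theorem ringKrullDim_range_le {n : ℕ} (x : Fin n → B) :
    ringKrullDim (MvPolynomial.aeval (R := k) x).range ≤ n := by
  rw [← ringKrullDim_mvPolynomial_fin (k := k) n]
  exact ringKrullDim_le_of_surjective (MvPolynomial.aeval (R := k) x).rangeRestrict.toRingHom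
    (MvPolynomial.aeval (R := k) x).rangeRestrict_surjective

/-- Lemma B' -/
theorem ringKrullDim_le_of_isIntegral_adjoin {n : ℕ} (x : Fin n → B)
    (h : Algebra.IsIntegral (Algebra.adjoin k (Set.range x)) B) : ringKrullDim B ≤ n := by
  refine (ringKrullDim_le_of_isIntegral (Algebra.adjoin k (Set.range x))).trans ?_
  rw [Algebra.adjoin_range_eq_range_aeval]
  exact ringKrullDim_range_le x

/-- Lemma C' -/
theorem algebraicIndependent_of_le_ringKrullDim {n : ℕ} (x : Fin n → B)
    (h : Algebra.IsIntegral (Algebra.adjoin k (Set.range x)) B)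
    (hd : (n : WithBot ℕ∞) ≤ ringKrullDim B) : AlgebraicIndependent k x := by
  by_contra hx
  rw [algebraicIndependent_iff_injective_aeval, injective_iff_map_eq_zero] at hx
  push Not at hx
  obtain ⟨g, hg, hg0⟩ := hx
  have h1 := ringKrullDim_le_of_isIntegral (Algebra.adjoin k (Set.range x))
  rw [Algebra.adjoin_range_eq_range_aeval] at h1
  have h2 : ringKrullDim (MvPolynomial.aeval (R := k) x).range + 1 ≤
      ringKrullDim (MvPolynomial (Fin n) k) :=
    ringKrullDim_succ_le_of_surjective (MvPolynomial.aeval (R := k) x).rangeRestrict.toRingHom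
      (MvPolynomial.aeval (R := k) x).rangeRestrict_surjective
      (mem_nonZeroDivisors_of_ne_zero hg0) (by
        apply Subtype.ext
        exact hg)
  rw [ringKrullDim_mvPolynomial_fin] at h2
  have h3 : (n : WithBot ℕ∞) + 1 ≤ n := le_trans (by gcongr; exact hd.trans h1) h2
  have h4 : ((n + 1 : ℕ) : WithBot ℕ∞) ≤ (n : ℕ) := by exact_mod_cast h3
  have h5 : n + 1 ≤ n := by exact_mod_cast h4
  omega

theorem ringKrullDim_eq_of_algebraicIndependent {n : ℕ} (x : Fin n → B)
    (h : Algebra.IsIntegral (Algebra.adjoin k (Set.range x)) B)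
    (hx : AlgebraicIndependent k x) : ringKrullDim B = n := by
  apply le_antisymm (ringKrullDim_le_of_isIntegral_adjoin x h)
  have hinj : Function.Injective (algebraMap (Algebra.adjoin k (Set.range x)) B) :=
    Subtype.val_injective
  rw [ringKrullDim_eq_of_isIntegral_of_injective _ B hinj]
  have e : MvPolynomial (Fin n) k ≃ₐ[k] Algebra.adjoin k (Set.range x) := hx.aevalEquiv
  rw [← ringKrullDim_eq_of_ringEquiv e.toRingEquiv, ringKrullDim_mvPolynomial_fin]

/-- Lemma A -/
theorem le_ringKrullDim_of_algebraicIndependent [Algebra.FiniteType k B] {n : ℕ} (x : Fin n → B)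
    (hx : AlgebraicIndependent k x) : (n : WithBot ℕ∞) ≤ ringKrullDim B := by
  classical
  have : IsNoetherianRing B := Algebra.FiniteType.isNoetherianRing k B
  set g : MvPolynomial (Fin n) k →ₐ[k] B := MvPolynomial.aeval x with hg
  have hginj : Function.Injective g := hx
  have hfin : (minimalPrimes B).Finite := minimalPrimes.finite_of_isNoetherianRing B
  -- some minimal prime contracts to zero
  have hex : ∃ P ∈ minimalPrimes B, P.comap g.toRingHom = ⊥ := by
    by_contra hne
    push Not at hne
    have hch : ∀ P : Ideal B, ∃ a : MvPolynomial (Fin n) k, P ∈ minimalPrimes B →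
        a ≠ 0 ∧ g a ∈ P := by
      intro P
      by_cases hP : P ∈ minimalPrimes B
      · obtain ⟨a, ha, ha0⟩ := Submodule.exists_mem_ne_zero_of_ne_bot (hne P hP)
        exact ⟨a, fun _ => ⟨ha0, ha⟩⟩
      · exact ⟨0, fun h => absurd h hP⟩
    choose a ha using hch
    set p : MvPolynomial (Fin n) k := ∏ P ∈ hfin.toFinset, a P with hp
    have hp0 : p ≠ 0 := by
      rw [hp, Finset.prod_ne_zero_iff]
      intro P hP
      exact (ha P (hfin.mem_toFinset.mp hP)).1
    have hnil : g p ∈ nilradical B := by
      rw [nilradical, ← Ideal.sInf_minimalPrimes, Ideal.mem_sInf]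
      intro P hP
      rw [hp, map_prod]
      exact Ideal.prod_mem P (hfin.mem_toFinset.mpr hP) (ha P hP).2
    obtain ⟨N, hN⟩ := hnil
    rw [← map_pow] at hN
    have : p ^ N = 0 := hginj (by rw [hN, map_zero])
    exact hp0 (eq_zero_of_pow_eq_zero this)
  obtain ⟨P, hP, hPc⟩ := hex
  have : P.IsPrime := hP.1.1
  set x' : Fin n → B ⧸ P := fun i => Ideal.Quotient.mk P (x i) with hx'
  have hx'ind : AlgebraicIndependent k x' := by
    rw [algebraicIndependent_iff_injective_aeval, injective_iff_map_eq_zero]
    intro a ha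
    have h1 : MvPolynomial.aeval x' a = Ideal.Quotient.mk P (g a) := by
      have : (Ideal.Quotient.mkₐ k P).comp g = MvPolynomial.aeval x' := by
        apply MvPolynomial.algHom_ext
        intro i
        simp [hg, hx']
      rw [← this]; rfl
    rw [h1, Ideal.Quotient.eq_zero_iff_mem] at ha
    have h2 : a ∈ P.comap g.toRingHom := ha
    rw [hPc] at h2
    exact h2
  obtain ⟨m, hm1, hm2⟩ := exists_dim_eq_trdeg k (B ⧸ P)
  have h1 := hx'ind.lift_cardinalMk_le_trdeg
  rw [hm1] at h1
  simp only [Cardinal.mk_fin, Cardinal.lift_natCast, Nat.cast_le] at h1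
  calc (n : WithBot ℕ∞) ≤ (m : WithBot ℕ∞) := by exact_mod_cast h1
    _ = ringKrullDim (B ⧸ P) := hm2.symm
    _ ≤ ringKrullDim B := ringKrullDim_quotient_le P

end Groth.Agent.Helper9.IdealRed
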