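import Mathlib
import Groth.Agent.Lib.Helper9.IdealRed.Dim

/-!
# Integrality over the subalgebra generated by a finite family, ring hom form (helper9)
-/

universe u
namespace Groth.Agent.Helper9.IdealRed

section
variable (k : Type u) {B : Type u} [CommRing k] [CommRing B] [Algebra k B]

/-- `B` is integral over `k[x₁,…,xₙ]` (ring hom form) -/
def IntOver {n : ℕ} (x : Fin n → B) : Prop :=
  (MvPolynomial.aeval x : MvPolynomial (Fin n) k →ₐ[k] B).toRingHom.IsIntegral

variable {k}

theorem intOver_iff {n : ℕ} (x : Fin n → B) :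
    IntOver k x ↔ Algebra.IsIntegral (Algebra.adjoin k (Set.range x)) B := by
  set f : MvPolynomial (Fin n) k →ₐ[k] B := MvPolynomial.aeval x with hf
  have hS : Algebra.adjoin k (Set.range x) = f.range := Algebra.adjoin_range_eq_range_aeval k x
  rw [hS]
  letI : Algebra (MvPolynomial (Fin n) k) B := f.toRingHom.toAlgebra
  letI : Algebra (MvPolynomial (Fin n) k) f.range := f.rangeRestrict.toRingHom.toAlgebra
  haveI : IsScalarTower (MvPolynomial (Fin n) k) f.range B :=
    IsScalarTower.of_algebraMap_eq (fun _ => rfl)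
  constructor
  · intro h
    refine ⟨fun z => ?_⟩
    have hz : IsIntegral (MvPolynomial (Fin n) k) z := h z
    exact hz.tower_top
  · intro h z
    haveI : Algebra.IsIntegral (MvPolynomial (Fin n) k) f.range :=
      Algebra.isIntegral_of_surjective f.rangeRestrict_surjective
    have hz : IsIntegral (MvPolynomial (Fin n) k) z := isIntegral_trans z (h.isIntegral z)
    exact hz

end

open Polynomial in
/-- a generic criterion for integrality of an element along a ring hom -/
theorem isIntegralElem_of_eq {A P F : Type*} [CommRing A] [CommRing P] [CommRing F]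
    (π : A →+* F) (ψ : P →+* F) (z : A) (n : ℕ) (a : Fin n → A) (q : Fin n → P)
    (hq : ∀ j, ψ (q j) = π (a j))
    (h : z ^ n + ∑ j : Fin n, a j * z ^ (j : ℕ) = 0) : ψ.IsIntegralElem (π z) := by
  refine ⟨X ^ n + ∑ j : Fin n, C (q j) * X ^ (j : ℕ), monic_X_pow_add (degree_sum_fin_lt _), ?_⟩
  simp only [eval₂_add, eval₂_pow, eval₂_X, eval₂_finsetSum, eval₂_mul, eval₂_C, hq]
  rw [← map_pow, ← map_zero π, ← h, map_add, map_sum]
  simp only [map_mul, map_pow]

section Field
variable {k : Type u} [Field k] {B : Type u} [CommRing B] [Algebra k B]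

theorem ringKrullDim_le_of_intOver {n : ℕ} (x : Fin n → B) (h : IntOver k x) :
    ringKrullDim B ≤ n :=
  ringKrullDim_le_of_isIntegral_adjoin x ((intOver_iff x).mp h)

theorem algebraicIndependent_of_intOver {n : ℕ} (x : Fin n → B) (h : IntOver k x)
    (hd : (n : WithBot ℕ∞) ≤ ringKrullDim B) : AlgebraicIndependent k x :=
  algebraicIndependent_of_le_ringKrullDim x ((intOver_iff x).mp h) hd

theorem ringKrullDim_eq_of_intOver {n : ℕ} (x : Fin n → B) (h : IntOver k x)
    (hx : AlgebraicIndependent k x) : ringKrullDim B = n :=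
  ringKrullDim_eq_of_algebraicIndependent x ((intOver_iff x).mp h) hx

end Field

end Groth.Agent.Helper9.IdealRed
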